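import Groth.Agent.FibDepth.SkOne
import Groth.Agent.FlatDepth.CompDescent
import Mathlib.AlgebraicGeometry.ProjectiveSpectrum.Basic
import Mathlib.RingTheory.GradedAlgebra.HomogeneousLocalization
import Mathlib.RingTheory.Ideal.MinimalPrime.Localization
import Mathlib.RingTheory.Ideal.AssociatedPrime.Localization

/-!
# Homogeneous localizations at primes: Noetherian, and Serre's condition (S_1)
-/

noncomputable section

set_option backward.isDefEq.respectTransparency false
set_option backward.isDefEq.respectTransparency.types false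

universe u

namespace Groth.Agent.ProjS1

open HomogeneousLocalization DirectSum

variable {A : Type u} [CommRing A] (𝒜 : ℕ → AddSubgroup A) [GradedRing 𝒜] (p : Ideal A) [p.IsPrime]

/-- The numerators of the elements of an ideal generate an ideal of `A`. -/
def numIdeal (J : Ideal (AtPrime 𝒜 p)) : Ideal A :=
  Ideal.span {a : A | ∃ c : NumDenSameDeg 𝒜 p.primeCompl, HomogeneousLocalization.mk c ∈ J ∧ (c.num : A) = a}

omit [p.IsPrime] in
theorem proj_mem (i : ℕ) (a : A) : GradedRing.proj 𝒜 i a ∈ 𝒜 i := by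
  rw [GradedRing.proj_apply]; exact SetLike.coe_mem _

/-- An ideal of the homogeneous localization is recovered from its numerators. -/
theorem mem_of_num_mem (J : Ideal (AtPrime 𝒜 p)) (c : NumDenSameDeg 𝒜 p.primeCompl)
    (hc : (c.num : A) ∈ numIdeal 𝒜 p J) : HomogeneousLocalization.mk c ∈ J := by
  have key : ∀ a ∈ numIdeal 𝒜 p J, ∀ (r : A) (i : ℕ) (s : 𝒜 i) (hs : (s : A) ∈ p.primeCompl),
      HomogeneousLocalization.mk ⟨i, ⟨GradedRing.proj 𝒜 i (r * a), proj_mem 𝒜 i _⟩, s, hs⟩ ∈ J := by
    intro a ha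
    induction ha using Submodule.span_induction with
    | mem x hx =>
      obtain ⟨e, heJ, rfl⟩ := hx
      intro r i s hs
      by_cases hi : e.deg ≤ i
      · have hmem : GradedRing.proj 𝒜 (i - e.deg) r * (e.den : A) ∈ 𝒜 i := by
          have h := SetLike.mul_mem_graded (proj_mem 𝒜 (i - e.deg) r) e.den.2
          rwa [Nat.sub_add_cancel hi] at h
        convert J.mul_mem_left (HomogeneousLocalization.mk ⟨i, ⟨_, hmem⟩, s, hs⟩) heJ using 1
        apply HomogeneousLocalization.val_injective
        have e1 : GradedRing.proj 𝒜 i (r * (e.num : A)) = GradedRing.proj 𝒜 (i - e.deg) r * (e.num : A) :=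
          coe_decompose_mul_of_right_mem_of_le 𝒜 e.num.2 hi
        simp only [val_mk, val_mul, Localization.mk_mul, e1]
        rw [Localization.mk_eq_mk_iff, Localization.r_iff_exists]
        exact ⟨1, by simp only [Submonoid.coe_mul, OneMemClass.coe_one, one_mul]; ring⟩
      · convert J.zero_mem using 1
        apply HomogeneousLocalization.val_injective
        have e1 : GradedRing.proj 𝒜 i (r * (e.num : A)) = 0 :=
          coe_decompose_mul_of_right_mem_of_not_le 𝒜 e.num.2 hi
        simp only [val_mk, val_zero, e1, Localization.mk_zero]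
    | zero =>
      intro r i s hs
      convert J.zero_mem using 1
      apply HomogeneousLocalization.val_injective
      simp only [val_mk, val_zero, mul_zero, map_zero, Localization.mk_zero]
    | add x y _ _ hx hy =>
      intro r i s hs
      convert J.add_mem (hx r i s hs) (hy r i s hs) using 1
      apply HomogeneousLocalization.val_injective
      simp only [val_mk, val_add, mul_add, map_add, Localization.add_mk_self]
    | smul t x _ hx =>
      intro r i s hs
      convert hx (r * t) i s hs using 5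
      simp [smul_eq_mul, mul_assoc]
  convert key _ hc 1 c.deg c.den c.den_mem using 1
  apply HomogeneousLocalization.val_injective
  simp only [val_mk, one_mul, GradedRing.proj_apply, decompose_of_mem_same 𝒜 c.num.2]

theorem numIdeal_injective : Function.Injective (numIdeal 𝒜 p) := by
  intro J J' h
  ext z
  obtain ⟨c, rfl⟩ := HomogeneousLocalization.mk_surjective z
  exact ⟨fun hc => mem_of_num_mem 𝒜 p J' c (h ▸ Ideal.subset_span ⟨c, hc, rfl⟩),
    fun hc => mem_of_num_mem 𝒜 p J c (h.symm ▸ Ideal.subset_span ⟨c, hc, rfl⟩)⟩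

theorem numIdeal_mono : Monotone (numIdeal 𝒜 p) :=
  fun _ _ h => Ideal.span_mono fun _ ⟨c, hc, e⟩ => ⟨c, h hc, e⟩

/-- The homogeneous localization of a Noetherian graded ring at a prime is Noetherian. -/
theorem isNoetherianRing [IsNoetherianRing A] : IsNoetherianRing (AtPrime 𝒜 p) := by
  haveI : WellFoundedGT (Ideal (AtPrime 𝒜 p)) :=
    ((numIdeal_mono 𝒜 p).strictMono_of_injective (numIdeal_injective 𝒜 p)).wellFoundedGT
  exact isNoetherian_iff'.mpr inferInstance

/-- If `A` has no embedded primes and `p` does not contain all elements of positive degree, the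
homogeneous localization at `p` has no embedded primes. -/
theorem minimal_of_mem_associatedPrimes [IsNoetherianRing A]
    (hA : ∀ P ∈ associatedPrimes A A, P ∈ minimalPrimes A) {d : ℕ} (hd : 0 < d) {f : A}
    (hfd : f ∈ 𝒜 d) (hfp : f ∉ p) :
    ∀ q ∈ associatedPrimes (AtPrime 𝒜 p) (AtPrime 𝒜 p), q ∈ minimalPrimes (AtPrime 𝒜 p) := by
  intro q hq
  haveI hqp : q.IsPrime := hq.1
  obtain ⟨z₀, hz₀⟩ := hq.2
  have hne : z₀.val ≠ (0 : Localization p.primeCompl) := by
    intro h0
    have hz : z₀ = 0 := HomogeneousLocalization.val_injective _ (h0.trans val_zero.symm)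
    apply hqp.ne_top
    rw [hz₀, hz]
    simp
  haveI : IsNoetherianRing (Localization p.primeCompl) :=
    IsLocalization.isNoetherianRing p.primeCompl _ inferInstance
  obtain ⟨Q, hQ, hQle⟩ := exists_le_isAssociatedPrime_of_isNoetherianRing (Localization p.primeCompl) _ hne
  haveI : Q.IsPrime := hQ.1
  set P : Ideal A := Q.comap (algebraMap A (Localization p.primeCompl)) with hP
  have hPass : P ∈ associatedPrimes A A := by
    have h := Module.associatedPrimes.preimage_comap_associatedPrimes_eq_associatedPrimes_of_isLocalizedModule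
      p.primeCompl (Localization p.primeCompl) (M := A) (Algebra.linearMap A (Localization p.primeCompl))
    exact (Set.ext_iff.1 h Q).2 hQ
  have hPmin := hA P hPass
  haveI : P.IsPrime := hPass.1
  have hPp : P ≤ p := by
    intro a ha
    by_contra hap
    exact Ideal.IsPrime.ne_top ‹Q.IsPrime›
      (Ideal.eq_top_of_isUnit_mem _ ha (IsLocalization.map_units (Localization p.primeCompl) (⟨a, hap⟩ : p.primeCompl)))
  have hnum : ∀ c : NumDenSameDeg 𝒜 p.primeCompl, HomogeneousLocalization.mk c ∈ q → (c.num : A) ∈ P := by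
    intro c hc
    rw [hz₀] at hc
    obtain ⟨k, hk⟩ := hc
    rw [Submodule.mem_colon_singleton, Submodule.mem_bot, smul_eq_mul] at hk
    have h1 : (HomogeneousLocalization.mk c).val ^ k * z₀.val = 0 := by
      rw [← val_pow, ← val_mul, hk, val_zero]
    have h2 : (HomogeneousLocalization.mk c).val ∈ Q := by
      apply Ideal.IsPrime.mem_of_pow_mem ‹Q.IsPrime› k
      exact hQle (Submodule.mem_colon_singleton.2 ((Submodule.mem_bot _).2 h1))
    rw [val_mk, Localization.mk_eq_mk'] at h2
    exact IsLocalization.mk'_mem_iff.1 h2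
  refine ⟨⟨hqp, bot_le⟩, ?_⟩
  rintro q' ⟨hq', -⟩ hq'q z hz
  obtain ⟨c, rfl⟩ := HomogeneousLocalization.mk_surjective z
  -- numerator is killed by an element outside `P`, up to a power
  have haP : (c.num : A) ∈ P := hnum c hz
  obtain ⟨m, hm⟩ : ∃ m, algebraMap A (Localization.AtPrime P) ((c.num : A) ^ m) = 0 := by
    have h := IsLocalization.AtPrime.radical_map_of_mem_minimalPrimes (Localization.AtPrime P) P ⊥ hPmin
    rw [Ideal.map_bot] at h
    obtain ⟨m, hm⟩ : algebraMap A (Localization.AtPrime P) (c.num : A) ∈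
        (⊥ : Ideal (Localization.AtPrime P)).radical := h.symm ▸ Ideal.mem_map_of_mem _ haP
    exact ⟨m, by rw [map_pow]; exact hm⟩
  obtain ⟨⟨w, hw⟩, hw0⟩ := (IsLocalization.map_eq_zero_iff P.primeCompl _ _).1 hm
  obtain ⟨j, hj⟩ : ∃ j, GradedRing.proj 𝒜 j w ∉ P := by
    by_contra h
    push Not at h
    apply hw
    classical
    rw [← DirectSum.sum_support_decompose 𝒜 w]
    exact Ideal.sum_mem _ fun i _ => by simpa only [GradedRing.proj_apply] using h i
  have hnpow : (c.num : A) ^ m ∈ 𝒜 (m • c.deg) := SetLike.pow_mem_graded m c.num.2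
  have hj0 : GradedRing.proj 𝒜 j w * (c.num : A) ^ m = 0 := by
    rw [GradedRing.proj_apply, ← coe_decompose_mul_add_of_right_mem 𝒜 hnpow]
    simp only at hw0
    rw [hw0]
    simp
  have hnd : GradedRing.proj 𝒜 j w ^ d ∈ 𝒜 (d * j) := by
    simpa only [smul_eq_mul] using SetLike.pow_mem_graded d (proj_mem 𝒜 j w)
  have hfj : f ^ j ∈ 𝒜 (d * j) := by
    simpa only [smul_eq_mul, mul_comm] using SetLike.pow_mem_graded j hfd
  let e : NumDenSameDeg 𝒜 p.primeCompl :=
    ⟨d * j, ⟨_, hnd⟩, ⟨_, hfj⟩, fun h => hfp (‹p.IsPrime›.mem_of_pow_mem j h)⟩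
  have he : HomogeneousLocalization.mk e * HomogeneousLocalization.mk c ^ m = 0 := by
    apply HomogeneousLocalization.val_injective
    rw [val_mul, val_pow, val_mk, val_mk, val_zero, Localization.mk_pow, Localization.mk_mul]
    rw [show (e.num : A) * (c.num : A) ^ m = 0 from ?_, Localization.mk_zero]
    show GradedRing.proj 𝒜 j w ^ d * (c.num : A) ^ m = 0
    obtain ⟨d', rfl⟩ := Nat.exists_eq_succ_of_ne_zero hd.ne'
    rw [pow_succ, mul_assoc, hj0, mul_zero]
  rcases hq'.mem_or_mem (he ▸ q'.zero_mem) with h | h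
  · exact absurd (Ideal.IsPrime.mem_of_pow_mem ‹P.IsPrime› d (hnum e (hq'q h))) hj
  · exact hq'.mem_of_pow_mem m h

open AlgebraicGeometry in
/-- Every local ring of `Proj A` satisfies `(S_1)` if `A` does. -/
theorem hasSk_stalk (A : Type u) [CommRing A] [IsNoetherianRing A] (𝒜 : ℕ → AddSubgroup A) [GradedRing 𝒜]
    (hA : LocCoh.HasSk 1 A A) (x : Proj 𝒜) :
    LocCoh.HasSk 1 ((Proj 𝒜).presheaf.stalk x) ((Proj 𝒜).presheaf.stalk x) := by
  classical
  have : IsNoetherianRing (AtPrime 𝒜 x.asHomogeneousIdeal.toIdeal) := isNoetherianRing 𝒜 _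
  refine FlatDepth.hasSk_of_equiv 1 (Proj.stalkIso 𝒜 x).commRingCatIsoToRingEquiv.symm
    ((FibDepth.hasSk_one_iff _).2 ?_)
  obtain ⟨f, hf, hfx⟩ := SetLike.not_le_iff_exists.1 x.not_irrelevant_le
  obtain ⟨d, hd⟩ : ∃ d, GradedRing.proj 𝒜 d f ∉ x.asHomogeneousIdeal := by
    by_contra h
    push Not at h
    apply hfx
    rw [← DirectSum.sum_support_decompose 𝒜 f]
    exact Ideal.sum_mem _ fun i _ => (h i : _)
  refine minimal_of_mem_associatedPrimes 𝒜 _ ((FibDepth.hasSk_one_iff A).1 hA)
    (Nat.pos_of_ne_zero ?_) (proj_mem 𝒜 d f) hd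
  rintro rfl
  exact hd (by rw [(HomogeneousIdeal.mem_irrelevant_iff 𝒜 f).1 hf]; exact Submodule.zero_mem _)

end Groth.Agent.ProjS1
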